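import Groth.Agent.Lib.FibreFlat.IsoLocus
import Mathlib.AlgebraicGeometry.Morphisms.FlatDescent

/-!
# The open locus of the base over which a morphism becomes an isomorphism, by base change
-/

set_option autoImplicit false
set_option linter.all false
set_option backward.isDefEq.respectTransparency false

universe u

open CategoryTheory CategoryTheory.Limits AlgebraicGeometry

noncomputable section

namespace GrothLib.IsoLocusBC13

theorem exists_open_isIso_baseChange {S : Scheme.{u}} [IsLocallyNoetherian S] (X Y : Over S)
    [IsProper X.hom] [IsProper Y.hom] [Flat X.hom] (f : X ⟶ Y) :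
    ∃ S₀ : S.Opens, ∀ (S' : Scheme.{u}) (h : S' ⟶ S),
      Set.range h ⊆ (S₀ : Set S) ↔ IsIso ((Over.pullback h).map f).left := by
  haveI : IsProper (f.left ≫ Y.hom) := by rw [Over.w]; infer_instance
  haveI : IsProper f.left := IsProper.of_comp f.left Y.hom
  haveI : LocallyOfFinitePresentation (f.left ≫ Y.hom) := by
    rw [Over.w]; infer_instance
  haveI : Flat (f.left ≫ Y.hom) := by rw [Over.w]; infer_instance
  obtain ⟨U, hU, hUiso⟩ := GrothLib.FibreFlat.isOpen_isIso_fibre_locus f.left Y.hom
  refine ⟨U, fun S' h => ?_⟩
  let f' : pullback X.hom h ⟶ pullback Y.hom h := ((Over.pullback h).map f).left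
  let k := pullback.fst Y.hom h
  have e1 : f' ≫ pullback.fst Y.hom h = pullback.fst X.hom h ≫ f.left := pullback.lift_fst _ _ _
  have e2 : f' ≫ pullback.snd Y.hom h = pullback.snd X.hom h := pullback.lift_snd _ _ _
  have hsq : IsPullback (pullback.fst X.hom h) f' f.left k := by
    refine IsPullback.of_bot ?_ e1.symm (IsPullback.of_hasPullback Y.hom h)
    rw [e2, Over.w]
    exact IsPullback.of_hasPullback X.hom h
  constructor
  · intro hr
    obtain ⟨k', l, -, hl⟩ := GrothLib.FibreFlat.isPullback_restrict_of_range f.left (Y.hom ⁻¹ᵁ U) k fun t => by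
      show Y.hom (k t) ∈ U
      rw [← Scheme.Hom.comp_apply, pullback.condition, Scheme.Hom.comp_apply]
      exact hr ⟨_, rfl⟩
    haveI := hUiso
    haveI hk : IsIso (pullback.snd f.left k) :=
      MorphismProperty.of_isPullback (P := MorphismProperty.isomorphisms Scheme) hl hUiso
    have : f' = (hsq.isoPullback).hom ≫ pullback.snd f.left k := (hsq.isoPullback_hom_snd).symm
    show IsIso f'
    rw [this]
    infer_instance
  · rintro hf _ ⟨s', rfl⟩
    refine (hU (h s')).2 ?_
    haveI : IsIso f' := hf
    let q : Spec (S'.residueField s') ⟶ Spec (S.residueField (h s')) := Spec.map (h.residueFieldMap s')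
    haveI : Surjective q := ⟨fun y => ⟨IsLocalRing.closedPoint _, Subsingleton.elim _ _⟩⟩
    haveI : Flat q := by
      rw [HasRingHomProperty.Spec_iff (P := @Flat)]
      algebraize [(h.residueFieldMap s').hom]
      exact RingHom.flat_algebraMap_iff.2 inferInstance
    let p : Y.hom.fiber (h s') ⟶ Spec (S.residueField (h s')) := Y.hom.fiberToSpecResidueField (h s')
    let c := pullback.fst p q
    let i : Y.hom.fiber (h s') ⟶ Y.left := Y.hom.fiberι (h s')
    have hcond : (c ≫ i) ≫ Y.hom = (pullback.snd p q ≫ S'.fromSpecResidueField s') ≫ h := by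
      have h1 : i ≫ Y.hom = p ≫ S.fromSpecResidueField (h s') := pullback.condition
      rw [Category.assoc, h1, pullback.condition_assoc, Category.assoc]
      congr 1
      exact Scheme.Hom.SpecMap_residueFieldMap_fromSpecResidueField h s'
    let t : pullback p q ⟶ pullback Y.hom h := pullback.lift _ _ hcond
    have ht : t ≫ k = c ≫ i := pullback.lift_fst _ _ _
    refine MorphismProperty.of_isPullback_of_descendsAlong (P := MorphismProperty.isomorphisms Scheme)
      (Q := @Surjective ⊓ @Flat ⊓ @QuasiCompact) (IsPullback.of_hasPullback (pullback.snd f.left i) c).flip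
      ⟨⟨inferInstance, inferInstance⟩, inferInstance⟩ ?_
    show IsIso (pullback.snd (pullback.snd f.left i) c)
    have big : IsPullback (pullback.fst (pullback.snd f.left i) c ≫ pullback.fst f.left i)
        (pullback.snd (pullback.snd f.left i) c) f.left (t ≫ k) := by
      rw [ht]
      exact (IsPullback.of_hasPullback _ c).paste_horiz (IsPullback.of_hasPullback f.left i)
    have big' := (IsPullback.of_hasPullback f' t).paste_horiz hsq
    have : pullback.snd (pullback.snd f.left i) c =
        (big.isoIsPullback _ _ big').hom ≫ pullback.snd f' t := (big.isoIsPullback_hom_snd _ _ big').symm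
    rw [this]
    infer_instance

end GrothLib.IsoLocusBC13
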